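import Mathlib
import Cfsg.Agent.Lib.Helper48.FrakL.Defs

/-!
# S2863, package A, step (4) (helper62): conjugating an element of `SL₂(F)` of trace `≠ 2`

Every `g ∈ SL₂(F)` with `tr g ≠ 2` is either conjugate to `n(t) * xe s` with `t ≠ 0`, `s ≠ -2t`
(where `n(t) = xe t * ye (-1/t) * xe t = [[0, t], [-1/t, 0]]`), or it is the central element
`-1 = n(1)²` and `2 ≠ 0` in `F`.
-/

set_option autoImplicit false
set_option linter.unnecessarySeqFocus false

namespace Cfsg.Agent.Lib.Helper62.FrakL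

open Cfsg.Agent.Lib.Helper48.FrakL Matrix

variable {F : Type*} [Field F]

theorem coe_xe (t : F) :
    ((xe t : Matrix.SpecialLinearGroup (Fin 2) F) : Matrix (Fin 2) (Fin 2) F) = !![1, t; 0, 1] :=
  rfl

theorem coe_ye (t : F) :
    ((ye t : Matrix.SpecialLinearGroup (Fin 2) F) : Matrix (Fin 2) (Fin 2) F) = !![1, 0; t, 1] :=
  rfl

/-- the matrix of `n(t) * xe s` -/
theorem coe_nn_mul_xe (t s : F) (ht : t ≠ 0) :
    ((xe t * ye (-1 / t) * xe t * xe s : Matrix.SpecialLinearGroup (Fin 2) F) :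
      Matrix (Fin 2) (Fin 2) F) = !![0, t; -1 / t, -s / t] := by
  simp only [Matrix.SpecialLinearGroup.coe_mul, coe_xe, coe_ye, Matrix.mul_fin_two]
  ext i j
  fin_cases i <;> fin_cases j <;> simp <;> field_simp <;> ring

/-- the matrix of `n(t)` -/
theorem coe_nn (t : F) (ht : t ≠ 0) :
    ((xe t * ye (-1 / t) * xe t : Matrix.SpecialLinearGroup (Fin 2) F) :
      Matrix (Fin 2) (Fin 2) F) = !![0, t; -1 / t, 0] := by
  simp only [Matrix.SpecialLinearGroup.coe_mul, coe_xe, coe_ye, Matrix.mul_fin_two]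
  ext i j
  fin_cases i <;> fin_cases j <;> simp [ht] <;> field_simp <;> ring

/-- the entries of an element of `SL₂(F)` -/
theorem coe_eq_of (g : Matrix.SpecialLinearGroup (Fin 2) F) :
    (g : Matrix (Fin 2) (Fin 2) F) =
      !![(g : Matrix (Fin 2) (Fin 2) F) 0 0, (g : Matrix (Fin 2) (Fin 2) F) 0 1;
        (g : Matrix (Fin 2) (Fin 2) F) 1 0, (g : Matrix (Fin 2) (Fin 2) F) 1 1] :=
  Matrix.eta_fin_two _

theorem det_eq_of (g : Matrix.SpecialLinearGroup (Fin 2) F) :
    (g : Matrix (Fin 2) (Fin 2) F) 0 0 * (g : Matrix (Fin 2) (Fin 2) F) 1 1 -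
      (g : Matrix (Fin 2) (Fin 2) F) 0 1 * (g : Matrix (Fin 2) (Fin 2) F) 1 0 = 1 := by
  have h := g.2
  rw [Matrix.det_fin_two] at h
  exact h

/-- an element of `SL₂(F)` from its entries -/
theorem exists_entries (g : Matrix.SpecialLinearGroup (Fin 2) F) :
    ∃ a b c d : F, (g : Matrix (Fin 2) (Fin 2) F) = !![a, b; c, d] ∧ a * d - b * c = 1 :=
  ⟨_, _, _, _, coe_eq_of g, det_eq_of g⟩

/-- case `c ≠ 0` -/
theorem conj_form_of_ne (g : Matrix.SpecialLinearGroup (Fin 2) F)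
    (hc : (g : Matrix (Fin 2) (Fin 2) F) 1 0 ≠ 0)
    (htr : (g : Matrix (Fin 2) (Fin 2) F) 0 0 + (g : Matrix (Fin 2) (Fin 2) F) 1 1 ≠ 2) :
    ∃ (k : Matrix.SpecialLinearGroup (Fin 2) F) (t s : F), t ≠ 0 ∧ s ≠ -2 * t ∧
      k⁻¹ * g * k = xe t * ye (-1 / t) * xe t * xe s := by
  obtain ⟨a, b, c, d, hg, hdet⟩ := exists_entries g
  rw [hg] at hc htr
  simp only [Matrix.of_apply, Matrix.cons_val_zero, Matrix.cons_val_one, Matrix.cons_val',
    Matrix.cons_val_fin_one] at hc htr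
  have ht : (-1 / c : F) ≠ 0 := div_ne_zero (neg_ne_zero.2 one_ne_zero) hc
  refine ⟨xe (a / c), -1 / c, (a + d) / c, ht, ?_, ?_⟩
  · intro h
    apply htr
    field_simp at h
    linear_combination h
  · rw [mul_assoc, inv_mul_eq_iff_eq_mul]
    apply Subtype.ext
    have e1 : ((g * xe (a / c) : Matrix.SpecialLinearGroup (Fin 2) F) :
        Matrix (Fin 2) (Fin 2) F) = !![a, b; c, d] * !![1, a / c; 0, 1] := by
      rw [Matrix.SpecialLinearGroup.coe_mul, hg, coe_xe]
    have e2 : ((xe (a / c) * (xe (-1 / c) * ye (-1 / (-1 / c)) * xe (-1 / c) * xe ((a + d) / c)) :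
        Matrix.SpecialLinearGroup (Fin 2) F) : Matrix (Fin 2) (Fin 2) F) =
        !![1, a / c; 0, 1] * !![0, -1 / c; -1 / (-1 / c), -((a + d) / c) / (-1 / c)] := by
      rw [Matrix.SpecialLinearGroup.coe_mul, coe_nn_mul_xe _ _ ht, coe_xe]
    change ((g * xe (a / c) : Matrix.SpecialLinearGroup (Fin 2) F) :
        Matrix (Fin 2) (Fin 2) F) = _
    rw [e1]
    refine Eq.trans ?_ e2.symm
    rw [Matrix.mul_fin_two, Matrix.mul_fin_two]
    ext i j
    fin_cases i <;> fin_cases j <;> simp <;> field_simp <;> linear_combination (-1 : F) * hdet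

/-- transport of the normal form along a conjugation -/
theorem conj_form_of_conj (g w : Matrix.SpecialLinearGroup (Fin 2) F)
    (h : ∃ (k : Matrix.SpecialLinearGroup (Fin 2) F) (t s : F), t ≠ 0 ∧ s ≠ -2 * t ∧
      k⁻¹ * (w⁻¹ * g * w) * k = xe t * ye (-1 / t) * xe t * xe s) :
    ∃ (k : Matrix.SpecialLinearGroup (Fin 2) F) (t s : F), t ≠ 0 ∧ s ≠ -2 * t ∧
      k⁻¹ * g * k = xe t * ye (-1 / t) * xe t * xe s := by
  obtain ⟨k, t, s, ht, hs, hk⟩ := h
  refine ⟨w * k, t, s, ht, hs, ?_⟩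
  rw [← hk]
  group

/-- the matrix of `w⁻¹ g w`, `w = n(1)` -/
theorem coe_conj_nn_one (g : Matrix.SpecialLinearGroup (Fin 2) F) (a b c d : F)
    (hg : (g : Matrix (Fin 2) (Fin 2) F) = !![a, b; c, d]) :
    (((xe 1 * ye (-1 / 1) * xe 1)⁻¹ * g * (xe 1 * ye (-1 / 1) * xe 1) :
      Matrix.SpecialLinearGroup (Fin 2) F) : Matrix (Fin 2) (Fin 2) F) = !![d, -c; -b, a] := by
  rw [Matrix.SpecialLinearGroup.coe_mul, Matrix.SpecialLinearGroup.coe_mul,
    Matrix.SpecialLinearGroup.coe_inv, coe_nn 1 one_ne_zero, hg, Matrix.adjugate_fin_two_of,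
    Matrix.mul_fin_two, Matrix.mul_fin_two]
  ext i j
  fin_cases i <;> fin_cases j <;> simp

/-- the matrix of `u⁻¹ g u`, `u = xe 1` -/
theorem coe_conj_xe_one (g : Matrix.SpecialLinearGroup (Fin 2) F) (a b c d : F)
    (hg : (g : Matrix (Fin 2) (Fin 2) F) = !![a, b; c, d]) :
    (((xe 1)⁻¹ * g * xe 1 : Matrix.SpecialLinearGroup (Fin 2) F) : Matrix (Fin 2) (Fin 2) F) =
      !![a - c, a - c + b - d; c, c + d] := by
  rw [Matrix.SpecialLinearGroup.coe_mul, Matrix.SpecialLinearGroup.coe_mul,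
    Matrix.SpecialLinearGroup.coe_inv, coe_xe, hg, Matrix.adjugate_fin_two_of,
    Matrix.mul_fin_two, Matrix.mul_fin_two]
  ext i j
  fin_cases i <;> fin_cases j <;> simp <;> ring

/-- case `b ≠ 0` -/
theorem conj_form_of_ne' (g : Matrix.SpecialLinearGroup (Fin 2) F)
    (hb : (g : Matrix (Fin 2) (Fin 2) F) 0 1 ≠ 0)
    (htr : (g : Matrix (Fin 2) (Fin 2) F) 0 0 + (g : Matrix (Fin 2) (Fin 2) F) 1 1 ≠ 2) :
    ∃ (k : Matrix.SpecialLinearGroup (Fin 2) F) (t s : F), t ≠ 0 ∧ s ≠ -2 * t ∧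
      k⁻¹ * g * k = xe t * ye (-1 / t) * xe t * xe s := by
  obtain ⟨a, b, c, d, hg, hdet⟩ := exists_entries g
  rw [hg] at hb htr
  simp only [Matrix.of_apply, Matrix.cons_val_zero, Matrix.cons_val_one, Matrix.cons_val',
    Matrix.cons_val_fin_one] at hb htr
  apply conj_form_of_conj g (xe 1 * ye (-1 / 1) * xe 1)
  apply conj_form_of_ne
  · rw [coe_conj_nn_one g a b c d hg]
    simpa using hb
  · rw [coe_conj_nn_one g a b c d hg]
    simp only [Matrix.of_apply, Matrix.cons_val_zero, Matrix.cons_val_one, Matrix.cons_val',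
      Matrix.cons_val_fin_one]
    rw [add_comm]
    exact htr

/-- **Step (4) of package A.** Every element of `SL₂(F)` of trace `≠ 2` is conjugate to some
`n(t) * xe s` with `t ≠ 0`, `s ≠ -2t` (`n(t) = xe t * ye (-1/t) * xe t`), or it is the central
element `-1 = n(1)²` (and then `2 ≠ 0` in `F`). -/
theorem sl2_conj_form (g : Matrix.SpecialLinearGroup (Fin 2) F)
    (htr : (g : Matrix (Fin 2) (Fin 2) F) 0 0 + (g : Matrix (Fin 2) (Fin 2) F) 1 1 ≠ 2) :
    (∃ (k : Matrix.SpecialLinearGroup (Fin 2) F) (t s : F), t ≠ 0 ∧ s ≠ -2 * t ∧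
      k⁻¹ * g * k = xe t * ye (-1 / t) * xe t * xe s) ∨
    ((2 : F) ≠ 0 ∧ g = (xe 1 * ye (-1) * xe 1) * (xe 1 * ye (-1) * xe 1)) := by
  by_cases hc : (g : Matrix (Fin 2) (Fin 2) F) 1 0 = 0
  swap
  · exact Or.inl (conj_form_of_ne g hc htr)
  by_cases hb : (g : Matrix (Fin 2) (Fin 2) F) 0 1 = 0
  swap
  · exact Or.inl (conj_form_of_ne' g hb htr)
  obtain ⟨a, b, c, d, hg, hdet⟩ := exists_entries g
  have htr' := htr
  rw [hg] at hb hc htr'
  simp only [Matrix.of_apply, Matrix.cons_val_zero, Matrix.cons_val_one, Matrix.cons_val',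
    Matrix.cons_val_fin_one] at hb hc htr'
  subst hb
  subst hc
  by_cases had : a = d
  swap
  · left
    apply conj_form_of_conj g (xe 1)
    apply conj_form_of_ne'
    · rw [coe_conj_xe_one g a 0 0 d hg]
      simp only [Matrix.of_apply, Matrix.cons_val_zero, Matrix.cons_val_one, Matrix.cons_val',
        Matrix.cons_val_fin_one]
      intro h
      apply had
      linear_combination h
    · rw [coe_conj_xe_one g a 0 0 d hg]
      simp only [Matrix.of_apply, Matrix.cons_val_zero, Matrix.cons_val_one, Matrix.cons_val',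
        Matrix.cons_val_fin_one]
      intro h
      apply htr'
      linear_combination h
  · right
    subst had
    have h1 : (a - 1) * (a + 1) = 0 := by linear_combination hdet
    have ha : a = -1 := by
      rcases mul_eq_zero.1 h1 with h | h
      · exfalso
        apply htr'
        linear_combination 2 * h
      · linear_combination h
    subst ha
    have h2 : (2 : F) ≠ 0 := by
      intro h
      apply htr'
      linear_combination (-2 : F) * h
    refine ⟨h2, ?_⟩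
    apply Subtype.ext
    have e := coe_nn (1 : F) one_ne_zero
    rw [show (-1 / 1 : F) = -1 by simp] at e
    rw [hg, Matrix.SpecialLinearGroup.coe_mul, e, Matrix.mul_fin_two]
    ext i j
    fin_cases i <;> fin_cases j <;> simp

end Cfsg.Agent.Lib.Helper62.FrakL
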