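import Mathlib
import Cfsg.Prelude.Def_LocalStructure
import Cfsg.Agent.Lib.Helper47.Basic
import Cfsg.Agent.Lib.Helper47.PRedSub
import Cfsg.Agent.Lib.Helper48.FrakL.Core

/-!
# S2863, package (R2) (helper62): transfer from the frozen statement to the abstract group `↥L`

For `L ∈ 𝔏_G(Y_M)`, with `Y = Y_M`:
* `data_of_frakL`: the abstract hypotheses `Data p (Y.subgroupOf L) (O_p(L))` hold in `↥L`;
* `card_map_mk`: the image of `Y` in `L / O_p(L)` has order `|Y : Y ∩ O_p(L)|`;
* `concl_transfer`: the abstract conclusion `Concl` gives the frozen conclusion of S2863.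
-/

set_option autoImplicit false

namespace Cfsg.Agent.Lib.Helper62.FrakL

open Cfsg.Agent.Lib.Helper48.FrakL

variable {G : Type*} [Group G]

/-- normalizing `Y` in `G` versus normalizing `Y.subgroupOf L` in `L` -/
theorem mem_normalizer_subgroupOf_iff {Y L : Subgroup G} (hYL : Y ≤ L) (x : ↥L) :
    x ∈ Subgroup.normalizer ((Y.subgroupOf L : Subgroup ↥L) : Set ↥L) ↔
      (x : G) ∈ Subgroup.normalizer (Y : Set G) := by
  rw [Subgroup.mem_normalizer_iff, Subgroup.mem_normalizer_iff]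
  constructor
  · intro h g
    constructor
    · intro hg
      exact (h ⟨g, hYL hg⟩).1 hg
    · intro hg
      have hgL : g ∈ L := by
        have h1 : (x : G)⁻¹ * ((x : G) * g * (x : G)⁻¹) * (x : G) ∈ L :=
          L.mul_mem (L.mul_mem (L.inv_mem x.2) (hYL hg)) x.2
        have e : (x : G)⁻¹ * ((x : G) * g * (x : G)⁻¹) * (x : G) = g := by group
        rwa [e] at h1
      exact (h ⟨g, hgL⟩).2 hg
  · intro h g
    exact h (g : G)

/-- `(O_p(L) as a subgroup of G).subgroupOf L = O_p(L)` -/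
theorem pCoreOf_subgroupOf (p : ℕ) (L : Subgroup G) :
    (Cfsg.pCoreOf p L).subgroupOf L = Cfsg.pCore p ↥L :=
  Subgroup.comap_map_eq_self_of_injective L.subtype_injective _

/-- **(R2a)** the abstract hypotheses hold in `↥L`. -/
theorem data_of_frakL [Finite G] {p : ℕ} [Fact p.Prime] (M L : Subgroup G)
    (hL : Cfsg.IsInFrakL p M L) :
    Data p ((Cfsg.largestPReducedOf p M).subgroupOf L) (Cfsg.pCore p ↥L) := by
  obtain ⟨hYL, hcl, hnorm, hmin, -, ⟨hlt, hmax⟩, -⟩ := hL
  obtain ⟨-, ⟨hcomm, hexp⟩, -⟩ := Cfsg.Agent.Lib.Helper47.largestPReducedOf_spec p M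
  refine ⟨?_, ?_, Cfsg.Agent.Lib.Helper47.pCore_isPGroup p ↥L,
    fun N hN hNp => Cfsg.Agent.Lib.Helper47.le_pCore hN hNp, ?_, ?_, hmin.1, ?_, ?_⟩
  · -- comm
    intro a ha b hb
    apply Subtype.ext
    have h1 := hcomm.is_comm.comm (⟨(a : G), Subgroup.mem_subgroupOf.1 ha⟩ :
      ↥(Cfsg.largestPReducedOf p M)) ⟨(b : G), Subgroup.mem_subgroupOf.1 hb⟩
    have h2 : (a : G) * (b : G) = (b : G) * (a : G) := congrArg Subtype.val h1
    exact h2
  · -- exp
    intro a ha
    apply Subtype.ext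
    have h1 := hexp (a : G) (Subgroup.mem_subgroupOf.1 ha)
    simpa using h1
  · -- closure
    have h1 : (Cfsg.pCore p ↥L).map L.subtype = (Subgroup.normalClosure
        (((Cfsg.largestPReducedOf p M ⊓ Cfsg.pCoreOf p L).subgroupOf L : Subgroup ↥L) :
          Set ↥L)).map L.subtype := hcl
    have h2 := Subgroup.map_injective L.subtype_injective h1
    have h3 : (Cfsg.largestPReducedOf p M ⊓ Cfsg.pCoreOf p L).subgroupOf L =
        (Cfsg.largestPReducedOf p M).subgroupOf L ⊓ Cfsg.pCore p ↥L := by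
      have e : (Cfsg.largestPReducedOf p M ⊓ Cfsg.pCoreOf p L).subgroupOf L =
          (Cfsg.largestPReducedOf p M).subgroupOf L ⊓ (Cfsg.pCoreOf p L).subgroupOf L :=
        Subgroup.comap_inf _ _ _
      rw [e, pCoreOf_subgroupOf]
    rw [h3] at h2
    exact h2
  · -- norm
    intro a ha
    rw [mem_normalizer_subgroupOf_iff hYL]
    exact hnorm (Subgroup.mem_map_of_mem L.subtype ha)
  · -- bne
    intro htop
    apply hlt.ne
    apply le_antisymm inf_le_left
    intro x hx
    refine Subgroup.mem_inf.2 ⟨hx, ?_⟩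
    have h1 : (⟨x, hx⟩ : ↥L) ∈ Subgroup.normalizer
        (((Cfsg.largestPReducedOf p M).subgroupOf L : Subgroup ↥L) : Set ↥L) := by
      rw [htop]
      exact Subgroup.mem_top _
    exact (mem_normalizer_subgroupOf_iff hYL _).1 h1
  · -- bmax
    intro K hYK hK x hx
    rw [mem_normalizer_subgroupOf_iff hYL]
    have hle : Cfsg.largestPReducedOf p M ≤ K.map L.subtype := by
      intro y hy
      exact ⟨⟨y, hYL hy⟩, hYK (Subgroup.mem_subgroupOf.2 hy), rfl⟩
    have hKL : K.map L.subtype ≤ L := by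
      rintro _ ⟨k, -, rfl⟩
      exact k.2
    have hlt' : K.map L.subtype < L := by
      refine lt_of_le_of_ne hKL ?_
      intro heq
      apply hK
      rw [eq_top_iff]
      intro y _
      have hy : (y : G) ∈ K.map L.subtype := by
        rw [heq]
        exact y.2
      obtain ⟨k, hk, hky⟩ := hy
      have : k = y := Subtype.ext hky
      rwa [this] at hk
    have h1 := hmax _ hle hlt' (Subgroup.mem_map_of_mem L.subtype hx)
    exact (Subgroup.mem_inf.1 h1).2

/-- **(R2b)** the image of `Y` in `L / O_p(L)` has order `|Y : Y ∩ O_p(L)|`. -/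
theorem card_map_mk [Finite G] {p : ℕ} [Fact p.Prime] (M L : Subgroup G)
    (hL : Cfsg.IsInFrakL p M L) :
    Nat.card ↥(((Cfsg.largestPReducedOf p M).subgroupOf L).map
      (QuotientGroup.mk' (Cfsg.pCore p ↥L))) =
      (Cfsg.largestPReducedOf p M ⊓ Cfsg.pCoreOf p L).relIndex (Cfsg.largestPReducedOf p M) := by
  have hYL := hL.1
  have h1 := Subgroup.relIndex_ker ((Cfsg.largestPReducedOf p M).subgroupOf L)
    (QuotientGroup.mk' (Cfsg.pCore p ↥L))
  rw [QuotientGroup.ker_mk'] at h1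
  rw [← h1, Subgroup.inf_relIndex_left]
  have h2 := Subgroup.relIndex_map_map_of_injective (Cfsg.pCore p ↥L)
    ((Cfsg.largestPReducedOf p M).subgroupOf L) L.subtype_injective
  rw [Subgroup.subgroupOf_map_subtype, inf_of_le_left hYL] at h2
  exact h2.symm

/-- **(R2c)** the abstract conclusion gives the frozen conclusion of S2863. -/
theorem concl_transfer [Finite G] {p : ℕ} [Fact p.Prime] (M L : Subgroup G)
    (_hL : Cfsg.IsInFrakL p M L)
    (hc : Concl p ((Cfsg.largestPReducedOf p M).subgroupOf L) (Cfsg.pCore p ↥L))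
    (h : G) (hh : h ∈ L) (hnp : ¬ ∃ k : ℕ, orderOf h = p ^ k) :
    ∀ a ∈ Cfsg.pCoreOf p L,
      h * a * h⁻¹ * a⁻¹ ∈ Cfsg.largestPReducedOf p M ⊓ Subgroup.centralizer (L : Set G) →
        a ∈ Cfsg.largestPReducedOf p M ⊓ Subgroup.centralizer (L : Set G) := by
  have hmem : ∀ x : ↥L, x ∈ (Cfsg.largestPReducedOf p M).subgroupOf L ⊓ Subgroup.center ↥L ↔
      (x : G) ∈ Cfsg.largestPReducedOf p M ⊓ Subgroup.centralizer (L : Set G) := by
    intro x
    rw [Subgroup.mem_inf, Subgroup.mem_inf, Subgroup.mem_subgroupOf, Subgroup.mem_center_iff,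
      Subgroup.mem_centralizer_iff]
    constructor
    · rintro ⟨h1, h2⟩
      refine ⟨h1, fun l hl => ?_⟩
      exact congrArg Subtype.val (h2 ⟨l, hl⟩)
    · rintro ⟨h1, h2⟩
      refine ⟨h1, fun l => ?_⟩
      exact Subtype.ext (h2 (l : G) l.2)
  rintro _ ⟨a, ha, rfl⟩ hcomm
  have hnp' : ¬ ∃ k : ℕ, orderOf (⟨h, hh⟩ : ↥L) = p ^ k := by
    rintro ⟨k, hk⟩
    apply hnp
    refine ⟨k, ?_⟩
    rw [← hk]
    exact (Subgroup.orderOf_mk h hh).symm
  have h1 := hc ⟨h, hh⟩ hnp' a ha ((hmem _).2 hcomm)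
  exact (hmem a).1 h1

end Cfsg.Agent.Lib.Helper62.FrakL
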