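import Mathlib
import Cfsg.Prelude.Def_LocalStructure
import Cfsg.Agent.Lib.Helper47.Basic
import Cfsg.Agent.Lib.Helper47.PRedSub
import Cfsg.Agent.Lib.Helper48.FrakL.Core
import Cfsg.Agent.Lib.Helper48.FrakL.DefsN
import Cfsg.Agent.Lib.Helper62.FrakL.Transfer

/-!
# S2861, package (N4) (helper62): transfer from the abstract conclusion `ConclN` in `↥L` to the
frozen conclusion of S2861

For `L ∈ 𝔏_G(Y_M)`, `Y = Y_M`, `A = O_p(L)`, `NL = N_L(Y)`: if `ConclN p (Y.subgroupOf L) (O_p(L))`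
holds in `↥L`, then `Y A / A` is the unique nontrivial elementary abelian normal `p`-subgroup of
`NL / A`.
-/

set_option autoImplicit false

namespace Cfsg.Agent.Lib.Helper62.FrakL

open Cfsg.Agent.Lib.Helper48.FrakL

/-- the statement without the `let` -/
theorem s2861_aux {G : Type*} [Group G] [Finite G] {p : ℕ} [Fact p.Prime] (M L : Subgroup G)
    (hL : Cfsg.IsInFrakL p M L)
    (hc : ConclN p ((Cfsg.largestPReducedOf p M).subgroupOf L) (Cfsg.pCore p ↥L))
    (NL : Subgroup G)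
    (hNL : NL = L ⊓ Subgroup.normalizer ((Cfsg.largestPReducedOf p M : Subgroup G) : Set G))
    [hn : ((Cfsg.pCoreOf p L).subgroupOf NL).Normal] :
    ((Cfsg.largestPReducedOf p M).subgroupOf NL).map
        (QuotientGroup.mk' ((Cfsg.pCoreOf p L).subgroupOf NL)) ≠ ⊥ ∧
    (((Cfsg.largestPReducedOf p M).subgroupOf NL).map
        (QuotientGroup.mk' ((Cfsg.pCoreOf p L).subgroupOf NL))).Normal ∧
    Cfsg.IsElementaryAbelian p (((Cfsg.largestPReducedOf p M).subgroupOf NL).map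
        (QuotientGroup.mk' ((Cfsg.pCoreOf p L).subgroupOf NL))) ∧
    ∀ V : Subgroup (↥NL ⧸ (Cfsg.pCoreOf p L).subgroupOf NL), V.Normal →
      Cfsg.IsElementaryAbelian p V → V ≠ ⊥ →
        V = ((Cfsg.largestPReducedOf p M).subgroupOf NL).map
          (QuotientGroup.mk' ((Cfsg.pCoreOf p L).subgroupOf NL)) := by
  have d := data_of_frakL M L hL
  have hYL : Cfsg.largestPReducedOf p M ≤ L := hL.1
  have hAnorm : Cfsg.pCoreOf p L ≤
      Subgroup.normalizer ((Cfsg.largestPReducedOf p M : Subgroup G) : Set G) := hL.2.2.1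
  have hAL : Cfsg.pCoreOf p L ≤ L := by
    rintro _ ⟨a, -, rfl⟩
    exact a.2
  obtain ⟨-, ⟨hcomm, hexp⟩, -⟩ := Cfsg.Agent.Lib.Helper47.largestPReducedOf_spec p M
  -- abbreviations
  obtain ⟨Y, hYdef⟩ : ∃ Y : Subgroup G, Y = Cfsg.largestPReducedOf p M := ⟨_, rfl⟩
  obtain ⟨AG, hAGdef⟩ : ∃ AG : Subgroup G, AG = Cfsg.pCoreOf p L := ⟨_, rfl⟩
  rw [← hYdef] at hYL hAnorm hNL hcomm hexp d hc ⊢
  have hn' : (AG.subgroupOf NL).Normal := by rw [hAGdef]; exact hn
  have hAsub : AG.subgroupOf L = Cfsg.pCore p ↥L := by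
    rw [hAGdef]; exact pCoreOf_subgroupOf p L
  have hYN : Y ≤ Subgroup.normalizer (Y : Set G) := Subgroup.le_normalizer
  have hYNL : Y ≤ NL := by
    rw [hNL]; exact le_inf hYL hYN
  have hANL : AG ≤ NL := by
    rw [hNL, hAGdef]; exact le_inf hAL (by rw [← hAGdef] at hAnorm ⊢; exact hAnorm)
  have hNLL : NL ≤ L := by rw [hNL]; exact inf_le_left
  have hNLN : NL ≤ Subgroup.normalizer (Y : Set G) := by rw [hNL]; exact inf_le_right
  -- the goal in terms of `Y`, `AG`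
  suffices hmain : (Y.subgroupOf NL).map (QuotientGroup.mk' (AG.subgroupOf NL)) ≠ ⊥ ∧
      ((Y.subgroupOf NL).map (QuotientGroup.mk' (AG.subgroupOf NL))).Normal ∧
      Cfsg.IsElementaryAbelian p ((Y.subgroupOf NL).map (QuotientGroup.mk' (AG.subgroupOf NL))) ∧
      ∀ V : Subgroup (↥NL ⧸ AG.subgroupOf NL), V.Normal → Cfsg.IsElementaryAbelian p V → V ≠ ⊥ →
        V = (Y.subgroupOf NL).map (QuotientGroup.mk' (AG.subgroupOf NL)) by
    subst hAGdef
    exact hmain
  have hker : ∀ n : ↥NL, QuotientGroup.mk' (AG.subgroupOf NL) n = 1 ↔ (n : G) ∈ AG := by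
    intro n
    rw [QuotientGroup.mk'_apply, QuotientGroup.eq_one_iff, Subgroup.mem_subgroupOf]
  have hmemA : ∀ x : ↥L, x ∈ Cfsg.pCore p ↥L ↔ (x : G) ∈ AG := by
    intro x
    rw [← hAsub, Subgroup.mem_subgroupOf]
  refine ⟨?_, ?_, ?_, ?_⟩
  · -- `Ybar ≠ ⊥`
    intro hbot
    apply d.not_le
    intro y hy
    rw [hmemA]
    have hyY : (y : G) ∈ Y := Subgroup.mem_subgroupOf.1 hy
    have h1 : QuotientGroup.mk' (AG.subgroupOf NL) ⟨(y : G), hYNL hyY⟩ ∈
        (Y.subgroupOf NL).map (QuotientGroup.mk' (AG.subgroupOf NL)) :=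
      Subgroup.mem_map_of_mem _ (Subgroup.mem_subgroupOf.2 hyY)
    rw [hbot, Subgroup.mem_bot] at h1
    exact (hker _).1 h1
  · -- normal
    have h1 : (Y.subgroupOf NL).Normal :=
      (Subgroup.normal_subgroupOf_iff_le_normalizer hYNL).2 hNLN
    exact h1.map _ (QuotientGroup.mk'_surjective _)
  · -- elementary abelian
    refine ⟨⟨⟨?_⟩⟩, ?_⟩
    · rintro ⟨_, a, ha, rfl⟩ ⟨_, b, hb, rfl⟩
      apply Subtype.ext
      change QuotientGroup.mk' (AG.subgroupOf NL) a * QuotientGroup.mk' (AG.subgroupOf NL) b =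
        QuotientGroup.mk' (AG.subgroupOf NL) b * QuotientGroup.mk' (AG.subgroupOf NL) a
      rw [← map_mul, ← map_mul]
      congr 1
      apply Subtype.ext
      have h1 := hcomm.is_comm.comm (⟨(a : G), Subgroup.mem_subgroupOf.1 ha⟩ : ↥Y)
        ⟨(b : G), Subgroup.mem_subgroupOf.1 hb⟩
      have h2 : (a : G) * (b : G) = (b : G) * (a : G) := congrArg Subtype.val h1
      exact h2
    · rintro _ ⟨a, ha, rfl⟩
      rw [← map_pow]
      have h1 : a ^ p = 1 := by
        apply Subtype.ext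
        have := hexp (a : G) (Subgroup.mem_subgroupOf.1 ha)
        simpa using this
      rw [h1, map_one]
  · -- uniqueness
    intro V hVn hVe hVne
    obtain ⟨hVcomm, hVexp⟩ := hVe
    -- the preimage of `V` in `↥L`
    obtain ⟨W, hWdef⟩ : ∃ W : Subgroup ↥L,
        W = ((V.comap (QuotientGroup.mk' (AG.subgroupOf NL))).map NL.subtype).subgroupOf L :=
      ⟨_, rfl⟩
    have hW : ∀ x : ↥L, x ∈ W ↔ ∃ h : (x : G) ∈ NL,
        QuotientGroup.mk' (AG.subgroupOf NL) ⟨(x : G), h⟩ ∈ V := by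
      intro x
      rw [hWdef, Subgroup.mem_subgroupOf, Subgroup.mem_map]
      constructor
      · rintro ⟨n, hn1, hn2⟩
        have hx : (x : G) ∈ NL := by
          rw [← hn2]; exact n.2
        refine ⟨hx, ?_⟩
        have e : (⟨(x : G), hx⟩ : ↥NL) = n := Subtype.ext hn2.symm
        rw [e]
        exact hn1
      · rintro ⟨hx, hxV⟩
        exact ⟨⟨(x : G), hx⟩, hxV, rfl⟩
    have hWeq := hc W ?_ ?_ ?_ ?_ ?_ ?_
    · -- `V = Ybar`
      apply le_antisymm
      · intro v hv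
        obtain ⟨n, rfl⟩ := QuotientGroup.mk'_surjective (AG.subgroupOf NL) v
        have hnW : (⟨(n : G), hNLL n.2⟩ : ↥L) ∈ W := (hW _).2 ⟨n.2, hv⟩
        rw [hWeq] at hnW
        have hnorm : (Cfsg.pCore p ↥L).Normal := inferInstance
        rw [← SetLike.mem_coe, Subgroup.mul_normal] at hnW
        obtain ⟨y, hy, a, ha, hya⟩ := hnW
        have hyY : (y : G) ∈ Y := Subgroup.mem_subgroupOf.1 hy
        have haA : (a : G) ∈ AG := (hmemA a).1 ha
        have hn_eq : n = (⟨(y : G), hYNL hyY⟩ : ↥NL) * ⟨(a : G), hANL haA⟩ := by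
          apply Subtype.ext
          have := congrArg (fun z : ↥L => (z : G)) hya
          exact this.symm
        rw [hn_eq, map_mul, (hker ⟨(a : G), hANL haA⟩).2 haA, mul_one]
        exact Subgroup.mem_map_of_mem _ (Subgroup.mem_subgroupOf.2 hyY)
      · rintro _ ⟨y, hy, rfl⟩
        have hyY : (y : G) ∈ Y := Subgroup.mem_subgroupOf.1 hy
        have h1 : (⟨(y : G), hYL hyY⟩ : ↥L) ∈ W := by
          rw [hWeq]
          exact Subgroup.mem_sup_left (Subgroup.mem_subgroupOf.2 hyY)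
        obtain ⟨h2, h3⟩ := (hW _).1 h1
        exact h3
    · -- `A ≤ W`
      intro a ha
      have haA : (a : G) ∈ AG := (hmemA a).1 ha
      refine (hW a).2 ⟨hANL haA, ?_⟩
      rw [(hker _).2 haA]
      exact V.one_mem
    · -- `W ≤ normalizer Y`
      intro w hw
      obtain ⟨h1, -⟩ := (hW w).1 hw
      rw [mem_normalizer_subgroupOf_iff hYL]
      exact hNLN h1
    · -- invariance under the normalizer
      intro b hb w hw
      have hbN : (b : G) ∈ NL := by
        rw [hNL]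
        exact Subgroup.mem_inf.2 ⟨b.2, (mem_normalizer_subgroupOf_iff hYL b).1 hb⟩
      obtain ⟨h1, h2⟩ := (hW w).1 hw
      refine (hW _).2 ⟨NL.mul_mem (NL.mul_mem hbN h1) (NL.inv_mem hbN), ?_⟩
      have e : (⟨((b * w * b⁻¹ : ↥L) : G), NL.mul_mem (NL.mul_mem hbN h1) (NL.inv_mem hbN)⟩ : ↥NL)
          = ⟨(b : G), hbN⟩ * ⟨(w : G), h1⟩ * (⟨(b : G), hbN⟩ : ↥NL)⁻¹ := by
        apply Subtype.ext
        simp
      rw [e, map_mul, map_mul, map_inv]
      exact hVn.conj_mem _ h2 _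
    · -- `p`-th powers
      intro w hw
      obtain ⟨h1, h2⟩ := (hW w).1 hw
      rw [hmemA]
      have h3 := hVexp _ h2
      rw [← map_pow, hker] at h3
      simpa using h3
    · -- commutators
      intro w hw w' hw'
      obtain ⟨h1, h2⟩ := (hW w).1 hw
      obtain ⟨h1', h2'⟩ := (hW w').1 hw'
      rw [hmemA]
      have h3 := hVcomm.is_comm.comm (⟨_, h2⟩ : ↥V) ⟨_, h2'⟩
      have h4 : QuotientGroup.mk' (AG.subgroupOf NL) ⟨(w : G), h1⟩ *
          QuotientGroup.mk' (AG.subgroupOf NL) ⟨(w' : G), h1'⟩ =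
          QuotientGroup.mk' (AG.subgroupOf NL) ⟨(w' : G), h1'⟩ *
          QuotientGroup.mk' (AG.subgroupOf NL) ⟨(w : G), h1⟩ := congrArg Subtype.val h3
      have h5 : QuotientGroup.mk' (AG.subgroupOf NL)
          ((⟨(w : G), h1⟩ : ↥NL) * ⟨(w' : G), h1'⟩ * (⟨(w : G), h1⟩ : ↥NL)⁻¹ *
            (⟨(w' : G), h1'⟩ : ↥NL)⁻¹) = 1 := by
        rw [map_mul, map_mul, map_mul, map_inv, map_inv, h4]
        group
      have h6 := (hker _).1 h5
      simpa using h6
    · -- `¬ W ≤ A`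
      intro hWA
      apply hVne
      rw [eq_bot_iff]
      intro v hv
      obtain ⟨n, rfl⟩ := QuotientGroup.mk'_surjective (AG.subgroupOf NL) v
      have hnW : (⟨(n : G), hNLL n.2⟩ : ↥L) ∈ W := (hW _).2 ⟨n.2, hv⟩
      have h1 := (hmemA _).1 (hWA hnW)
      rw [Subgroup.mem_bot]
      exact (hker n).2 h1

/-- **(N4)** the frozen conclusion of S2861 from the abstract conclusion `ConclN` in `↥L`. -/
theorem s2861_of_conclN {G : Type*} [Group G] [Finite G] {p : ℕ} [Fact p.Prime] (M L : Subgroup G)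
    (hL : Cfsg.IsInFrakL p M L)
    (hc : ConclN p ((Cfsg.largestPReducedOf p M).subgroupOf L) (Cfsg.pCore p ↥L))
    (NL : Subgroup G)
    (hNL : NL = L ⊓ Subgroup.normalizer ((Cfsg.largestPReducedOf p M : Subgroup G) : Set G))
    [hn : ((Cfsg.pCoreOf p L).subgroupOf NL).Normal] :
    let Ybar : Subgroup (↥NL ⧸ (Cfsg.pCoreOf p L).subgroupOf NL) :=
      ((Cfsg.largestPReducedOf p M).subgroupOf NL).map
        (QuotientGroup.mk' ((Cfsg.pCoreOf p L).subgroupOf NL));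
    Ybar ≠ ⊥ ∧ Ybar.Normal ∧ Cfsg.IsElementaryAbelian p Ybar ∧
      ∀ V : Subgroup (↥NL ⧸ (Cfsg.pCoreOf p L).subgroupOf NL), V.Normal →
        Cfsg.IsElementaryAbelian p V → V ≠ ⊥ → V = Ybar := by
  intro Ybar
  exact s2861_aux M L hL hc NL hNL

end Cfsg.Agent.Lib.Helper62.FrakL
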